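import Mathlib
import Cfsg.Prelude.Def_Sporadic_a

/-!
Double counting in Steiner systems.
-/

set_option autoImplicit false

namespace CfsgLib.Design

open Finset

variable {α : Type*} [Fintype α] [DecidableEq α] {t k : ℕ} {B : Finset (Finset α)}

/-- Blocks through a small set. -/
theorem blocks_through (hB : Cfsg.IsSteinerSystem t k (B : Set (Finset α))) (S : Finset α)
    (hS : S.card ≤ t) :
    (B.filter (S ⊆ ·)).card * (k - S.card).choose (t - S.card) =
      (Fintype.card α - S.card).choose (t - S.card) := by
  have h1 : ∀ c ∈ B.filter (S ⊆ ·),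
      (bipartiteAbove (fun (c T : Finset α) => T ⊆ c) (Sᶜ.powersetCard (t - S.card)) c).card =
        (k - S.card).choose (t - S.card) := by
    intro c hc
    rw [mem_filter] at hc
    rw [show bipartiteAbove (fun (c T : Finset α) => T ⊆ c) (Sᶜ.powersetCard (t - S.card)) c =
      (c \ S).powersetCard (t - S.card) by
        ext T
        simp only [bipartiteAbove, mem_filter, mem_powersetCard, subset_sdiff, subset_compl_iff_disjoint_right]
        tauto, card_powersetCard, card_sdiff_of_subset hc.2, hB.1 c hc.1]
  have h2 : ∀ T ∈ Sᶜ.powersetCard (t - S.card),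
      (bipartiteBelow (fun (c T : Finset α) => T ⊆ c) (B.filter (S ⊆ ·)) T).card = 1 := by
    intro T hT
    rw [mem_powersetCard] at hT
    have hd : Disjoint S T := (disjoint_compl_right (a := S)).mono_right hT.1
    obtain ⟨c, ⟨hc, hTc⟩, huniq⟩ := hB.2 (S ∪ T) (by rw [card_union_of_disjoint hd, hT.2]; omega)
    rw [card_eq_one]
    refine ⟨c, ?_⟩
    ext d
    simp only [bipartiteBelow, mem_filter, mem_singleton]
    refine ⟨fun h => huniq d ⟨h.1.1, union_subset h.1.2 h.2⟩, fun h => ?_⟩
    subst h
    exact ⟨⟨hc, union_subset_left hTc⟩, union_subset_right hTc⟩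
  have h3 := sum_card_bipartiteAbove_eq_sum_card_bipartiteBelow
    (fun (c T : Finset α) => T ⊆ c) (s := B.filter (S ⊆ ·)) (t := Sᶜ.powersetCard (t - S.card))
  rw [sum_congr rfl h1, sum_congr rfl h2, sum_const, sum_const, card_powersetCard, card_compl,
    smul_eq_mul, smul_eq_mul, mul_one] at h3
  exact h3

/-- The moments of the intersection sizes with a fixed set. -/
theorem moment (b : Finset α) (B' : Finset (Finset α)) (i L : ℕ)
    (hL : ∀ S : Finset α, S ⊆ b → S.card = i → (B'.filter (S ⊆ ·)).card = L) :
    ∑ c ∈ B', ((b ∩ c).card).choose i = b.card.choose i * L := by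
  have h := sum_card_bipartiteAbove_eq_sum_card_bipartiteBelow
    (fun (c S : Finset α) => S ⊆ c) (s := B') (t := b.powersetCard i)
  have e : ∀ c ∈ B', (bipartiteAbove (fun (c S : Finset α) => S ⊆ c) (b.powersetCard i) c).card =
      ((b ∩ c).card).choose i := by
    intro c _
    rw [show bipartiteAbove (fun (c S : Finset α) => S ⊆ c) (b.powersetCard i) c =
      (b ∩ c).powersetCard i by
        ext S; simp only [bipartiteAbove, mem_filter, mem_powersetCard, subset_inter_iff]; tauto,
      card_powersetCard]
  rw [sum_congr rfl e] at h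
  rw [h, sum_congr rfl fun S hS => ?_, sum_const, card_powersetCard, smul_eq_mul]
  exact hL S (mem_powersetCard.mp hS).1 (mem_powersetCard.mp hS).2

/-- Moments over the other blocks, for a fixed block `b`, grouped by intersection size. -/
theorem block_moment (hB : Cfsg.IsSteinerSystem t k (B : Set (Finset α))) {b : Finset α} (hb : b ∈ B)
    (i L : ℕ) (hi : i ≤ t)
    (hL : ∀ n, n * (k - i).choose (t - i) = (Fintype.card α - i).choose (t - i) → n = L + 1) :
    ∑ j ∈ range t, ((B.erase b).filter (fun c => (b ∩ c).card = j)).card * j.choose i =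
      k.choose i * L := by
  rw [← hB.1 b hb, ← moment b (B.erase b) i L]
  · have hmaps : ∀ c ∈ B.erase b, (b ∩ c).card ∈ range t := by
      intro c hc
      rw [mem_erase] at hc
      rw [mem_range]
      by_contra hge
      obtain ⟨S, hS, hSc⟩ := exists_subset_card_eq (not_lt.mp hge)
      obtain ⟨d, -, huniq⟩ := hB.2 S hSc
      exact hc.1 ((huniq c ⟨hc.2, hS.trans inter_subset_right⟩).trans
        (huniq b ⟨hb, hS.trans inter_subset_left⟩).symm)
    rw [← sum_fiberwise_of_maps_to hmaps]
    refine sum_congr rfl fun j _ => ?_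
    rw [sum_congr rfl (fun c hc => by rw [(mem_filter.mp hc).2] : ∀ c ∈ (B.erase b).filter
      (fun c => (b ∩ c).card = j), ((b ∩ c).card).choose i = j.choose i), sum_const, smul_eq_mul]
  · intro S hS hSc
    have h := blocks_through hB S (hSc ▸ hi)
    rw [hSc] at h
    rw [filter_erase, card_erase_of_mem (mem_filter.mpr ⟨hb, hS⟩), hL _ h, Nat.add_sub_cancel]

theorem exists_finset {B : Set (Finset α)} (hB : Cfsg.IsSteinerSystem t k B) :
    ∃ B' : Finset (Finset α), (B' : Set (Finset α)) = B ∧
      Cfsg.IsSteinerSystem t k (B' : Set (Finset α)) :=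
  ⟨B.toFinite.toFinset, B.toFinite.coe_toFinset, by rwa [B.toFinite.coe_toFinset]⟩

end CfsgLib.Design
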